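import Groth.Prelude.Def_RelSpec

/-! A quasi-coherent algebra from its values on the affine opens. -/

noncomputable section

universe u

open CategoryTheory CategoryTheory.Limits AlgebraicGeometry TopologicalSpace Opposite

namespace Groth.Agent.QCAlgLib

open Scheme (AffineZariskiSite)

variable {S : Scheme.{u}} {F : S.AffineZariskiSiteᵒᵖ ⥤ CommRingCat.{u}}
  {α : (AffineZariskiSite.toOpensFunctor S).op ⋙ S.presheaf ⟶ F} (H : α.Coequifibered)

/-- An affine open as an object of the affine site. -/
abbrev site (U : S.Opens) (hU : IsAffineOpen U) : S.AffineZariskiSite := (⟨U, hU⟩ : {U : S.Opens // IsAffineOpen U})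

variable (α) in
/-- The structure map over an affine open. -/
def strAff (U : S.Opens) (hU : IsAffineOpen U) : Γ(S, U) ⟶ F.obj (op (site U hU)) := α.app (op (site U hU))

/-- The gluing datum. -/
def glueData : (AffineZariskiSite.directedCover S).RelativeGluingData :=
  AffineZariskiSite.relativeGluingData H

instance : ((glueData H).functor ⋙ Scheme.forget).IsLocallyDirected :=
  Scheme.Cover.RelativeGluingData.instIsLocallyDirectedI₀CompFunctorForgetOfIsThin ..

/-- The glued scheme. -/
def spec : Scheme.{u} := (glueData H).glued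

/-- Its structure morphism. -/
def π : spec H ⟶ S := (glueData H).toBase

/-- Its charts. -/
def ι (U : S.Opens) (hU : IsAffineOpen U) : Spec (F.obj (op (site U hU))) ⟶ spec H := (glueData H).cover.f (site U hU)

instance (U : S.Opens) (hU : IsAffineOpen U) : IsOpenImmersion (ι H U hU) := (glueData H).cover.map_prop _

theorem ι_π (U : S.Opens) (hU : IsAffineOpen U) :
    ι H U hU ≫ π H = Spec.map (strAff α U hU) ≫ hU.fromSpec :=
  colimit.ι_desc _ _

theorem π_preimage (U : S.Opens) (hU : IsAffineOpen U) : π H ⁻¹ᵁ U = (ι H U hU).opensRange := by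
  simpa using! (glueData H).toBase_preimage_eq_opensRange_ι (site U hU)

theorem top_le_preimage (U : S.Opens) (hU : IsAffineOpen U) : ⊤ ≤ ι H U hU ⁻¹ᵁ (π H ⁻¹ᵁ U) := by
  rw [← Scheme.Hom.comp_preimage, ι_π, Scheme.Hom.comp_preimage, hU.fromSpec_preimage_self]
  exact le_top

theorem ι_res {U V : S.AffineZariskiSite} (i : V ⟶ U) : Spec.map (F.map i.op) ≫ ι H U.1 U.2 = ι H V.1 V.2 :=
  colimit.w (glueData H).functor i

instance isAffineHom_π : IsAffineHom (π H) :=
  ⟨fun U hU => by rw [π_preimage H U hU]; exact isAffineOpen_opensRange _⟩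

/-- The quasi-coherent algebra with prescribed values on affine opens. -/
def ofSite : RelSpec.QCAlg S := RelSpec.QCAlg.directImage (π H)

/-- Its value over an affine open. -/
def gammaAff (U : S.Opens) (hU : IsAffineOpen U) : (ofSite H).presheaf.obj (op U) ⟶ F.obj (op (site U hU)) :=
  (ι H U hU).appLE (π H ⁻¹ᵁ U) ⊤ (top_le_preimage H U hU) ≫ (Scheme.ΓSpecIso (F.obj (op (site U hU)))).hom

instance isIso_gammaAff (U : S.Opens) (hU : IsAffineOpen U) : IsIso (gammaAff H U hU) := by
  have h := (ι H U hU).isIso_app (π H ⁻¹ᵁ U) (π_preimage H U hU).le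
  have : IsIso ((Spec (F.obj (op (site U hU)))).presheaf.map (homOfLE (top_le_preimage H U hU)).op) := by
    have e : homOfLE (top_le_preimage H U hU) = eqToHom (le_antisymm (top_le_preimage H U hU) le_top) :=
      Subsingleton.elim _ _
    rw [e]; infer_instance
  rw [gammaAff, Scheme.Hom.appLE]
  exact @IsIso.comp_isIso _ _ _ _ _ _ _ (@IsIso.comp_isIso _ _ _ _ _ _ _ h this) (Iso.isIso_hom _)

set_option backward.isDefEq.respectTransparency false in
theorem gammaAff_naturality {U V : S.AffineZariskiSite} (i : V ⟶ U) :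
    (ofSite H).presheaf.map (homOfLE (AffineZariskiSite.toOpens_mono i.le)).op ≫ gammaAff H V.1 V.2 =
      gammaAff H U.1 U.2 ≫ F.map i.op := by
  change (spec H).presheaf.map (homOfLE ((π H).preimage_mono (AffineZariskiSite.toOpens_mono i.le))).op ≫ _ = _
  simp only [gammaAff, Category.assoc, ← Scheme.ΓSpecIso_naturality]
  simp only [← Category.assoc]
  congr 1
  simp only [Scheme.Hom.appTop, Scheme.Hom.appLE, Category.assoc]
  have h1 := (Scheme.Hom.comp_app (Spec.map (F.map i.op)) (ι H U.1 U.2) (π H ⁻¹ᵁ U.1)).symm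
  rw [Scheme.Hom.naturality_assoc, Scheme.Hom.naturality, reassoc_of% h1,
    Scheme.Hom.congr_app (ι_res H i), Category.assoc, ← Functor.map_comp, ← Functor.map_comp]
  rfl

set_option backward.isDefEq.respectTransparency false in
theorem str_gammaAff (U : S.Opens) (hU : IsAffineOpen U) :
    (ofSite H).str.app (op U) ≫ gammaAff H U hU = strAff α U hU := by
  change (π H).app U ≫ _ = _
  have h1 := Scheme.Hom.congr_app (ι_π H U hU) U
  have h2 := (Scheme.Hom.comp_app (ι H U hU) (π H) U).symm
  have hk : ∀ k : (op ⊤ : (Spec (F.obj (op (site U hU)))).Opensᵒᵖ) ⟶ op ⊤,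
      (Spec (F.obj (op (site U hU)))).presheaf.map k = 𝟙 _ := fun k => by
    rw [Subsingleton.elim k (𝟙 _)]; exact CategoryTheory.Functor.map_id _ _
  simp only [gammaAff, Scheme.Hom.appLE, Category.assoc]
  rw [reassoc_of% h2, h1, Scheme.Hom.comp_app, hU.fromSpec_app_self]
  simp only [Category.assoc]
  rw [Scheme.Hom.naturality_assoc]
  simp only [← Functor.map_comp_assoc]
  erw [hk, Category.id_comp]
  rw [← cancel_epi (Scheme.ΓSpecIso Γ(S, U)).hom, Iso.hom_inv_id_assoc]
  erw [Scheme.ΓSpecIso_naturality]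

/-- The comparison as an isomorphism of presheaves on the affine site. -/
def ofSiteIso : (AffineZariskiSite.toOpensFunctor S).op ⋙ (ofSite H).presheaf ≅ F :=
  NatIso.ofComponents (fun U => @asIso _ _ _ _ (gammaAff H U.unop.1 U.unop.2) (isIso_gammaAff H _ _)) (fun i => gammaAff_naturality H i.unop)

/-- A homomorphism of quasi-coherent algebras from compatible maps on affine opens. -/
def homOfSite {A B : RelSpec.QCAlg S}
    (η : (AffineZariskiSite.toOpensFunctor S).op ⋙ A.presheaf ⟶ (AffineZariskiSite.toOpensFunctor S).op ⋙ B.presheaf)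
    (hη : ∀ U : S.AffineZariskiSite, A.str.app (op U.1) ≫ η.app (op U) = B.str.app (op U.1)) : A ⟶ B where
  hom := Functor.IsCoverDense.restrictHomEquivHom (G := AffineZariskiSite.toOpensFunctor S)
    (K := Opens.grothendieckTopology S) (ℱ := A.presheaf)
    (ℱ' := (⟨B.presheaf, B.isSheaf⟩ : TopCat.Sheaf CommRingCat.{u} S.carrier)) η
  comm := by
    let e := Functor.IsCoverDense.restrictHomEquivHom (G := AffineZariskiSite.toOpensFunctor S)
      (K := Opens.grothendieckTopology S) (ℱ := S.presheaf)
      (ℱ' := (⟨B.presheaf, B.isSheaf⟩ : TopCat.Sheaf CommRingCat.{u} S.carrier))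
    apply e.symm.injective
    ext U : 2
    exact (congrArg (A.str.app _ ≫ ·) (NatTrans.congr_app ((Functor.IsCoverDense.restrictHomEquivHom
      (G := AffineZariskiSite.toOpensFunctor S) (K := Opens.grothendieckTopology S) (ℱ := A.presheaf)
      (ℱ' := (⟨B.presheaf, B.isSheaf⟩ : TopCat.Sheaf CommRingCat.{u} S.carrier))).symm_apply_apply η) U)).trans
        (hη U.unop)

theorem homOfSite_app {A B : RelSpec.QCAlg S}
    (η : (AffineZariskiSite.toOpensFunctor S).op ⋙ A.presheaf ⟶ (AffineZariskiSite.toOpensFunctor S).op ⋙ B.presheaf)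
    (hη : ∀ U : S.AffineZariskiSite, A.str.app (op U.1) ≫ η.app (op U) = B.str.app (op U.1))
    (U : S.Opens) (hU : IsAffineOpen U) : (homOfSite η hη).hom.app (op U) = η.app (op (site U hU)) :=
  NatTrans.congr_app ((Functor.IsCoverDense.restrictHomEquivHom (G := AffineZariskiSite.toOpensFunctor S)
    (K := Opens.grothendieckTopology S) (ℱ := A.presheaf)
    (ℱ' := (⟨B.presheaf, B.isSheaf⟩ : TopCat.Sheaf CommRingCat.{u} S.carrier))).symm_apply_apply η) (op (site U hU))

/-- Homomorphisms agreeing on affine opens are equal. -/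
theorem hom_ext_affine {A B : RelSpec.QCAlg S} {φ ψ : A ⟶ B}
    (h : ∀ (U : S.Opens), IsAffineOpen U → φ.hom.app (op U) = ψ.hom.app (op U)) : φ = ψ := by
  refine RelSpec.QCAlg.hom_ext ?_
  apply (Functor.IsCoverDense.restrictHomEquivHom (G := AffineZariskiSite.toOpensFunctor S)
    (K := Opens.grothendieckTopology S) (ℱ := A.presheaf)
    (ℱ' := (⟨B.presheaf, B.isSheaf⟩ : TopCat.Sheaf CommRingCat.{u} S.carrier))).symm.injective
  ext U : 2
  exact h U.unop.1 U.unop.2

end Groth.Agent.QCAlgLib
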